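import Groth.Agent.H05EGA4.Regular
import Groth.Agent.H05EGA4.DimFibre
import Groth.Agent.H25Par.Rank
import Groth.Agent.H29Ref.Free
import Groth.Agent.H10Coh.FinType2
import Mathlib.Algebra.Homology.ExactSequence

/-!
# Syzygies over regular schemes of bounded dimension are locally free
-/

set_option autoImplicit false
set_option linter.style.haveILetI false

universe u

open CategoryTheory CategoryTheory.Limits AlgebraicGeometry IsLocalRing
open Groth.Agent.H16Derived.KFlat Groth.Agent.H16Derived.KFlat.Stalk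

namespace Groth.Agent.H10Coh.RegSyz

theorem projective_first {R : Type u} [CommRing R] {m : ℕ} (obj : ℕ → ModuleCat.{u} R)
    (f : ∀ i, obj i ⟶ obj (i + 1)) (hex : ∀ i, i + 1 ≤ m → Function.Exact (f i).hom (f (i + 1)).hom)
    (hinj : Function.Injective (f 0).hom) (hsurj : Function.Surjective (f m).hom)
    (hproj : ∀ i, 1 ≤ i → i ≤ m → Projective (obj i)) (hF : HasProjectiveDimensionLT (obj (m + 1)) (m + 1)) :
    Projective (obj 0) := by
  have key : ∀ t, t ≤ m →
      HasProjectiveDimensionLT (ModuleCat.of R (LinearMap.range (f (m - t)).hom)) (m - t + 1) := by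
    intro t
    induction t with
    | zero =>
      intro _
      rw [Nat.sub_zero]
      exact hasProjectiveDimensionLT_of_iso
        (LinearEquiv.ofTop _ (LinearMap.range_eq_top.2 hsurj)).symm.toModuleIso _
    | succ t ih =>
      intro ht
      obtain ⟨j, hj⟩ : ∃ j, m - (t + 1) = j := ⟨_, rfl⟩
      have h1 : m - t = j + 1 := by omega
      rw [hj]
      have hp := ih (by omega)
      rw [h1] at hp
      haveI := hproj (j + 1) (by omega) (by omega)
      let S : ShortComplex (ModuleCat.{u} R) :=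
        ShortComplex.mk (ModuleCat.ofHom (LinearMap.ker (f (j + 1)).hom).subtype)
          (ModuleCat.ofHom (f (j + 1)).hom.rangeRestrict) (by ext x; exact x.2)
      have hS : S.ShortExact :=
        { exact := (ShortComplex.ShortExact.moduleCat_exact_iff_function_exact S).2 fun y =>
            ⟨fun hy => ⟨⟨y, congrArg Subtype.val hy⟩, rfl⟩, by rintro ⟨x, rfl⟩; exact Subtype.ext x.2⟩
          mono_f := (ModuleCat.mono_iff_injective _).2 Subtype.val_injective
          epi_g := (ModuleCat.epi_iff_surjective _).2 (LinearMap.surjective_rangeRestrict _) }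
      have h2 : HasProjectiveDimensionLT S.X₂ (j + 1) := hasProjectiveDimensionLT_of_ge (obj (j + 1)) 1 _ (by omega)
      have h3 := hS.hasProjectiveDimensionLT_X₁ _ h2 hp
      exact @hasProjectiveDimensionLT_of_iso _ _ _ _ _
        (LinearEquiv.ofEq _ _ (LinearMap.exact_iff.1 (hex j (by omega)))).toModuleIso _ h3
  have h := key m le_rfl
  rw [Nat.sub_self] at h
  rw [projective_iff_hasProjectiveDimensionLT_one]
  exact @hasProjectiveDimensionLT_of_iso _ _ _ _ _ (LinearEquiv.ofInjective _ hinj).symm.toModuleIso _ h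

theorem isCoh_first {X : Scheme.{u}} [IsLocallyNoetherian X] {m : ℕ} (S : ComposableArrows X.Modules (m + 1))
    (hS : S.Exact) (hmono : Mono (S.map' 0 1 (Nat.zero_le 1) (Nat.le_add_left 1 m)))
    (hepi : Epi (S.map' m (m + 1) (Nat.le_succ m) (le_refl (m + 1))))
    (hE : ∀ i : Fin m, FlatMod.IsFinLocFree (S.obj ⟨i.1 + 1, Nat.succ_lt_succ (Nat.lt_succ_of_lt i.2)⟩))
    (hF : Coh.IsCoh (S.obj (Fin.last (m + 1)))) : Coh.IsCoh (S.obj 0) := by
  rcases m with _ | m
  · haveI := hmono
    haveI := hepi
    haveI : IsIso (S.map' 0 1 (Nat.zero_le 1) le_rfl) := isIso_of_mono_of_epi _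
    exact H10Coh.isCoh_of_iso (asIso (S.map' 0 1 (Nat.zero_le 1) le_rfl)).symm hF
  · have hc : ∀ (j : ℕ) (hj : j ≤ m + 2), 1 ≤ j → Coh.IsCoh (S.obj ⟨j, by omega⟩) := fun j hj h1 => by
      rcases Nat.lt_or_ge j (m + 2) with h | h
      · obtain ⟨i, rfl⟩ : ∃ i, j = i + 1 := ⟨j - 1, by omega⟩
        exact isCoh_of_isFinLocFree (hE ⟨i, by omega⟩)
      · obtain rfl : j = m + 2 := le_antisymm hj h
        exact hF
    have hex := hS.exact 0 (by omega)
    haveI : Mono (S.sc hS.toIsComplex 0).f := hmono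
    exact H10Coh.isCoh_of_iso (IsLimit.conePointUniqueUpToIso (limit.isLimit _) hex.fIsKernel)
      (H10Coh.isCoh_kernel (S.sc hS.toIsComplex 0).g (hc 1 (by omega) le_rfl) (hc 2 (by omega) (by omega)).1)

theorem isFinLocFree_first {X : Scheme.{u}} [IsNoetherian X]
    (hreg : ∀ x : X, IsRegularLocalRing (X.presheaf.stalk x)) {m : ℕ}
    (hdim : topologicalKrullDim X ≤ (m : WithBot ℕ∞)) (S : ComposableArrows X.Modules (m + 1))
    (hS : S.Exact) (hmono : Mono (S.map' 0 1 (Nat.zero_le 1) (Nat.le_add_left 1 m)))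
    (hepi : Epi (S.map' m (m + 1) (Nat.le_succ m) (le_refl (m + 1))))
    (hE : ∀ i : Fin m, FlatMod.IsFinLocFree (S.obj ⟨i.1 + 1, Nat.succ_lt_succ (Nat.lt_succ_of_lt i.2)⟩))
    (hF : Coh.IsCoh (S.obj (Fin.last (m + 1)))) : FlatMod.IsFinLocFree (S.obj 0) := by
  have hG := isCoh_first S hS hmono hepi hE hF
  refine H29Ref.isFinLocFree_of_free_stalk _ hG fun x => ?_
  let R : Type u := X.presheaf.stalk x
  haveI : IsRegularLocalRing R := hreg x
  let T := DerSch.stalkFunctor X x
  obtain ⟨d, hd, hk⟩ := H05EGA4.exists_pd_residueField R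
  have hdm : d ≤ m := by
    have h := (H05EGA4.DimFibre.stalkDim_le_top x).trans hdim
    rw [show ringKrullDim (X.presheaf.stalk x) = (d : WithBot ℕ∞) from hd] at h
    exact_mod_cast h
  let obj : ℕ → ModuleCat.{u} R := fun i => if h : i ≤ m + 1 then T.obj (S.obj ⟨i, by omega⟩) else ModuleCat.of R PUnit
  have hobj : ∀ i (h : i ≤ m + 1), obj i = T.obj (S.obj ⟨i, by omega⟩) := fun i h => dif_pos h
  let f : ∀ i, obj i ⟶ obj (i + 1) := fun i =>
    if h : i + 1 ≤ m + 1 then eqToHom (hobj i (by omega)) ≫ T.map (S.map' i (i + 1)) ≫ eqToHom (hobj (i + 1) h).symm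
    else 0
  have hf : ∀ i (h : i + 1 ≤ m + 1),
      f i = eqToHom (hobj i (by omega)) ≫ T.map (S.map' i (i + 1)) ≫ eqToHom (hobj (i + 1) h).symm :=
    fun i h => dif_pos h
  have hproj : Projective (obj 0) := by
    refine projective_first (m := m) obj f (fun i hi => ?_) ?_ ?_ (fun i h1 h2 => ?_) ?_
    · have hex := (hS.exact i (by omega)).map T
      have e : ((S.sc hS.toIsComplex i).map T) ≅ ShortComplex.mk (f i) (f (i + 1))
          (by rw [hf i (by omega), hf (i + 1) (by omega)]; simp [← Functor.map_comp_assoc,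
            hS.toIsComplex.zero i (by omega)]) :=
        ShortComplex.isoMk (eqToIso (hobj i (by omega)).symm) (eqToIso (hobj (i + 1) (by omega)).symm)
          (eqToIso (hobj (i + 1 + 1) (by omega)).symm)
          (by show eqToHom (hobj i (by omega)).symm ≫ f i = T.map (S.map' i (i + 1)) ≫ eqToHom (hobj (i + 1) (by omega)).symm
              rw [hf i (by omega)]; simp)
          (by show eqToHom (hobj (i + 1) (by omega)).symm ≫ f (i + 1) =
                T.map (S.map' (i + 1) (i + 1 + 1)) ≫ eqToHom (hobj (i + 1 + 1) (by omega)).symm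
              rw [hf (i + 1) (by omega)]; simp)
      exact (ShortComplex.ShortExact.moduleCat_exact_iff_function_exact _).1 (ShortComplex.exact_of_iso e hex)
    · refine (ModuleCat.mono_iff_injective (f 0)).1 ?_
      haveI := hmono
      rw [hf 0 (by omega)]
      haveI : Mono (T.map (S.map' 0 1)) := T.map_mono _
      infer_instance
    · refine (ModuleCat.epi_iff_surjective (f m)).1 ?_
      haveI := hepi
      rw [hf m le_rfl]
      haveI : Epi (T.map (S.map' m (m + 1))) := T.map_epi _
      infer_instance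
    · rw [hobj i (by omega)]
      obtain ⟨j, rfl⟩ : ∃ j, i = j + 1 := ⟨i - 1, by omega⟩
      have hL := hE ⟨j, by omega⟩
      haveI : Module.Flat R (T.obj (S.obj ⟨j + 1, by omega⟩)) := Stalk.isFlat_of_isFinLocFree hL x
      haveI : Module.Finite R (T.obj (S.obj ⟨j + 1, by omega⟩)) :=
        H29Ref.finite_stalk _ (isCoh_of_isFinLocFree hL).2 x
      haveI : Module.Free R (T.obj (S.obj ⟨j + 1, by omega⟩)) := Module.free_of_flat_of_isLocalRing
      exact (IsProjective.iff_projective (R := R) (T.obj (S.obj ⟨j + 1, by omega⟩))).1 inferInstance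
    · haveI := H05EGA4.hasProjectiveDimensionLT_of_residueField d hk (obj (m + 1))
      exact hasProjectiveDimensionLT_of_ge _ (d + 1) _ (by omega)
  rw [hobj 0 (by omega)] at hproj
  haveI : Module.Projective R ((S.obj 0).presheaf.stalk x) :=
    (IsProjective.iff_projective (R := R) (T.obj (S.obj 0))).2 hproj
  haveI : Module.Finite R ((S.obj 0).presheaf.stalk x) := H29Ref.finite_stalk _ hG.2 x
  exact Module.free_of_flat_of_isLocalRing

end Groth.Agent.H10Coh.RegSyz
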